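import Cfsg.Agent.Lib.LEx73.Struct
import Cfsg.Agent.S0205

/-!
The normal closure of a weakly closed involution with large extraspecial subgroup is simple.
-/

set_option autoImplicit false

namespace H9.WN

open Cfsg Subgroup H95 H73.LX

variable {G : Type*} [Group G] [Finite G] {Q : Subgroup G} {z : G} (h : L3 Q z)
include h

theorem mem_of_even {K : Subgroup G} (hK : 2 ∣ Nat.card K) (hn : Q ≤ normalizer (K : Set G)) : z ∈ K := by
  obtain ⟨k, hk, k1, hc⟩ := exists_cent_of_even h.isPGroup hn hK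
  exact (h.cent k hc).resolve_left k1 ▸ hk

theorem mem_of_comp {L K : Subgroup G} (hL : IsComponent L) (hK : L ≤ K) (hn : Q ≤ normalizer (K : Set G)) :
    z ∈ K := mem_of_even h (((Nat.even_or_odd _).resolve_right fun o =>
      H23.IsComponent.not_le_of_isSolvable hL (Cfsg.Agent.S0205.result o) hK).two_dvd) hn

theorem conj_comp {L K : Subgroup G} (hL : IsComponent L) (hK : IsComponent K) :
    ∃ q ∈ Q, K = L.map (MulAut.conj q).toMonoidHom := by
  by_contra hno
  push Not at hno
  have hz := mem_of_comp h hL (K := sSup {A | ∃ q ∈ Q, A = L.map (MulAut.conj q).toMonoidHom})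
    (le_sSup ⟨1, Q.one_mem, (map_conj_eq_self (one_mem _)).symm⟩) (le_normalizer_of_conj fun g hg x hx => by
      refine (sSup_le (a := (sSup _ : Subgroup G).comap (MulAut.conj g).toMonoidHom) ?_) hx
      rintro A ⟨q, hq, rfl⟩ y hy
      exact le_sSup (a := L.map (MulAut.conj (g * q)).toMonoidHom) (by exact ⟨g * q, Q.mul_mem hg hq, rfl⟩)
        (map_conj_mul L g q ▸ conj_mem_map hy g))
  refine not_le_cent h hK fun x hx => mem_cent_iff.2 (mem_centralizer_iff.1 (H23.le_centralizer_sSup_iff.2 ?_ hx) z hz).symm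
  rintro A ⟨q, hq, rfl⟩
  exact le_cent_of_ne (H23.IsComponent.map_conj hL q) hK (hno q hq)

variable (hO : ∀ N : Subgroup G, IsPGroup 2 N → (∀ x ∈ N, x * z = z * x) →
    (∀ g, g * z = z * g → ∀ x ∈ N, g * x * g⁻¹ ∈ N) → N ≤ Q)
  (wc : ∀ g, g * z * g⁻¹ ∈ Q → g * z * g⁻¹ = z) (nc : z ∉ center G)
include hO wc nc

omit [Finite G] h in
theorem not_mem_two {N : Subgroup G} [N.Normal] (hN : IsPGroup 2 N) (c : ∀ x ∈ N, x * z = z * x) : z ∉ N :=
  fun m => nc (mem_center_iff.2 fun g => mul_inv_eq_iff_eq_mul.1 (wc g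
    (hO N hN c (fun g _ x hx => Normal.conj_mem inferInstance x hx g) (Normal.conj_mem inferInstance z m g))))

theorem pCore_bot : pCore 2 G = ⊥ := by
  by_contra c
  obtain ⟨x, x1, x2, x3⟩ := H5.exists_mem_centralizer_orderOf_eq (p := 2)
    (H1.isPGroup_pCore (p := 2) (G := G)) le_rfl le_normalizer c
  have m := mem_of_even h (K := pCore 2 G ⊓ centralizer (pCore 2 G : Set G))
    (x3.symm.dvd.trans (Subgroup.orderOf_dvd_natCard _ (mem_inf.2 ⟨x1, x2⟩))) (by rw [normalizer_eq_top]; exact le_top)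
  exact not_mem_two hO wc nc (N := pCore 2 G ⊓ centralizer (pCore 2 G : Set G)) (H1.isPGroup_pCore.to_le inf_le_left)
    (fun y hy => (mem_centralizer_iff.1 hy.2 z m.1).symm) m

theorem red (hodd : oddCore G = ⊥) : normalClosure {z} = generalizedFittingSubgroup G ∧
    IsSimpleGroup (generalizedFittingSubgroup G) ∧ ¬ IsMulCommutative (generalizedFittingSubgroup G) := by
  have hF : fittingSubgroup G = ⊥ :=
    le_bot_iff.1 (hodd ▸ H23.fitting_le_pPrimeCore_of_pCore_eq_bot (pCore_bot h hO wc nc))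
  obtain ⟨L, hL⟩ := exists_comp h.toES hF
  have hz := mem_of_comp h hL (H23.IsComponent.le_layer hL) (by rw [normalizer_eq_top]; exact le_top)
  have hs := H23.IsComponent.isSimpleGroup_of_fitting_eq_bot hL hF
  have hn := not_comm_of_component hL
  have mv : ∀ v ∈ Q, L.map (MulAut.conj v).toMonoidHom = L := fun v hv => by
    by_contra ne
    obtain ⟨y, y1, y2⟩ := exists_part hL hz
    have m : Moved Q z L v y := ⟨h, fun x hx hc => eq_one_of_cent hF hL hx hc, hv, fun x hx =>
      le_cent_of_ne hL (H23.IsComponent.map_conj hL v) ne (conj_mem_map hx v), y1, y2⟩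
    have cj : ∀ {A : Subgroup G} {g x}, g ∈ normalizer (A : Set G) → g * z = z * g →
        x ∈ A ⊓ centralizer {z} → g * x * g⁻¹ ∈ A ⊓ centralizer {z} := fun hg c hx =>
      mem_inf.2 ⟨conj_mem_of_normalizer hg hx.1,
        mul_mem (mul_mem (mem_cent_iff.2 c) (mem_inf.1 hx).2) (inv_mem (mem_cent_iff.2 c))⟩
    refine no_self_cent hs hn y1 (fun e => not_le_cent h hL fun x hx => ?_) m.sq fun x hx c => m.of_mem hx ?_
    · rw [e, inv_one, one_mul] at y2
      exact mem_cent_iff.2 (mem_centralizer_iff.1 y2 x hx)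
    refine hO (pCoreOf 2 (layer G ⊓ centralizer {z} : Subgroup G)) (H1.isPGroup_pCoreOf _)
      (fun a ha => mem_cent_iff.1 (H1.pCoreOf_le _ ha).2) (fun g hg a ha => conj_mem_of_normalizer
        (H1.normalizer_le_normalizer_pCoreOf _ (le_normalizer_of_conj (K := centralizer {z}) (fun k hk a => cj
          (by rw [normalizer_eq_top]; trivial) (mem_cent_iff.1 hk)) (mem_cent_iff.2 hg))) ha)
      (H1.le_pCoreOf (K := L ⊓ centralizer {z}) (inf_le_inf_right _ (H23.IsComponent.le_layer hL))
        (le_normalizer_of_conj fun k hk a => cj (H23.IsComponent.layer_le_normalizer hL hk.1) (mem_cent_iff.1 hk.2))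
        (isPGroup_of_pow 2 fun a ha => m.pow_four ha.1 ((m.comm_iff ha.1).1 (mem_cent_iff.1 ha.2)))
        ⟨hx, mem_cent_iff.2 ((m.comm_iff hx).2 c)⟩)
  have e : generalizedFittingSubgroup G = L := by
    rw [H23.fStar_def, hF, sup_bot_eq]
    refine le_antisymm (H23.layer_le_iff.2 fun K hK => ?_) (H23.IsComponent.le_layer hL)
    obtain ⟨q, hq, rfl⟩ := conj_comp h hL hK
    exact (mv q hq).le
  refine ⟨le_antisymm (normalClosure_le_normal ?_) ?_, e ▸ hs, e ▸ hn⟩
  · rw [H23.fStar_def, hF, sup_bot_eq]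
    simpa using hz
  · refine e ▸ (H23.IsComponent.le_or_commutator_eq_bot hL (Normal.isSubnormal inferInstance)).resolve_right
      fun c => not_le_cent h hL fun x hx => mem_cent_iff.2 (mem_centralizer_iff.1
        (commutator_eq_bot_iff_le_centralizer.1 c hx) z (subset_normalClosure (Set.mem_singleton z))).symm

end H9.WN
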