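import Cfsg.Agent.Lib.WCn.Big

/-!
Width two: the extraspecial group lies in the normal closure of the class.
-/

set_option autoImplicit false

namespace H9.WN

open Module H95 H4.LX QuadraticMap Subgroup H9.WC
open H73.FD (Pr)

universe u

variable {G : Type u} [Group G] {K : Type*} [Group K] {n : ℕ}
variable {V : Type u} [AddCommGroup V] [Module (ZMod 2) V]

theorem Fm.uni {σ : K →* Module.End (ZMod 2) V} {q : QuadraticForm (ZMod 2) V} (F : Fm σ q n) (hK : NoE K) {v : V}
    (hv : ∀ k, σ k v = v) {k : K}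
    (hk : ∀ y, QuadraticMap.polar q v y = 0 → σ k y + y ∈ Submodule.span (ZMod 2) {v}) : k = 1 := by
  let P : Subgroup K :=
    { carrier := {k | ∀ y, QuadraticMap.polar q v y = 0 → σ k y + y ∈ Submodule.span (ZMod 2) {v}}
      mul_mem' := fun {a b} ha hb y hy => by
        have := add_mem (ha (σ b y) (by rw [← hv b, F.polar, hy])) (hb y hy)
        rwa [add_assoc, aab, ← app_mul] at this
      one_mem' := fun y _ => by simp [aa]
      inv_mem' := fun {a} ha y hy => by
        have := ha (σ a⁻¹ y) (by rw [← hv a⁻¹, F.polar, hy])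
        rwa [app_inv', add_comm] at this }
  have el : El P := fun k hk => F.sq_of fun x => by
    have h1 := F.b_mv (hv k) x
    rcases mem_span1.1 (hk _ h1) with e | e
    · exact az.1 e
    have h3 : QuadraticMap.polar q (σ k x + x + x) (v + (σ k x + x)) = QuadraticMap.polar q x (σ k x + x) := by
      rw [abb, ← e, abb, F.polar]
    have h4 := hk x
    generalize σ k x + x = y at *
    rw [polar_add_left, polar_add_right, polar_add_right, polar_comm q y v, h1, polar_same,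
      zero_add, zero_add, add_eq_right, polar_comm] at h3
    rcases mem_span1.1 (h4 h3) with e | e <;> rw [e]
    exacts [map_zero _, hv k]
  refine hK P (fun g a ha y hy => ?_) el (fun a ha b hb => el.comm ha hb) k hk
  have := ha (σ g⁻¹ y) (by rw [← hv g⁻¹, F.polar, hy])
  rw [app_mul, app_mul, ← app_inv' σ g y, app_inv, ← map_add]
  rcases mem_span1.1 this with e | e <;> rw [e]
  · simp
  · rw [hv]; exact Submodule.mem_span_singleton_self v

namespace Fn

variable {D : Set G} {Qf : G → Subgroup G} {z t : G}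

theorem four_le_card (F : Fn D Qf n V K) (h2 : 2 ≤ n) (p : Pr D z t) (C : Cx (Qf z) z n V K)
    (hI : ∀ i ∈ Qf z ⊓ Qf t, i = 1) : 4 ≤ Nat.card (C.imK (XX Qf t z)) := by
  obtain ⟨E⟩ := F.cx t p.r
  have c4 := F.card_Y p C
  have c5 := F.card_I p C
  rw [(eq_bot_iff.2 hI : Qf z ⊓ Qf t = ⊥)] at c4 c5
  rw [← c5, card_bot, F.card_X p.symm E] at c4
  have d1 := (F.wd p.symm E).fr_X E.form
  have d2 := E.form.fr_Fx (E.μ z)
  have d3 := E.form.Mv_le (F.wd p.symm E).ττ
  have := Nat.pow_le_pow_right (n := 2) (by norm_num) (show 2 ≤ finrank (ZMod 2) (E.img (XX Qf t z)) + 1 by omega)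
  omega

theorem y_fix (F : Fn D Qf n V K) (p : Pr D z t) (C : Cx (Qf z) z n V K) {y : K} (hy : y ∈ C.imK (XX Qf t z))
    (x : V) : C.σ y (C.N t x) = C.N t (C.σ y x) := by
  obtain ⟨y, hy, y1, rfl⟩ := hy
  rw [← C.N_conj y1 p.c.symm, cj_of ((F.l3 t p.r).central y (mem_XX.1 hy).1)]

theorem two_le_rk (F : Fn D Qf n V K) (h2 : 2 ≤ n) (p : Pr D z t) (C : Cx (Qf z) z n V K) : 2 ≤ rk (C.N t) := by
  by_contra c
  have := C.form.fin
  have := C.form.finK
  obtain ⟨x, hx⟩ := F.ne_N p C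
  obtain ⟨u, hu⟩ := exists_gen (A := LinearMap.range (C.N t)) (by unfold rk at c; omega)
  obtain rfl := (hu _ ⟨x, rfl⟩).resolve_left hx
  have o : ∀ v, C.N t v = 0 ∨ C.N t v = C.N t x := fun v => hu _ ⟨v, rfl⟩
  have hI : ∀ i ∈ Qf z ⊓ Qf t, i = 1 := fun i hi =>
    F.lam_I p (by_contra fun nl => c ((F.alt p C nl).two_le C.sp hx)) hi
  have W := F.wd p C
  have nx : C.N t x ∉ C.img (XX Qf z t) := fun m => c ((C.form.alt W.ττ fun v => by
    rcases o v with e | e
    · exact (congrArg C.q e).trans (map_zero _)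
    · exact (congrArg C.q e).trans ((W.XU x).1 m)).two_le C.sp hx)
  have fx : ∀ y ∈ C.imK (XX Qf t z), ∀ v, C.N t v = 0 → C.σ y v = v := fun y hy v hv => by
    have k1 : C.σ y (C.N t x) = C.N t x := by
      rw [F.y_fix p C hy]
      refine (o _).resolve_left fun e => hx ?_
      rw [← app_inv C.σ y (C.N t x), F.y_fix p C hy, e, map_zero]
    obtain ⟨y, hy, -, rfl⟩ := hy
    by_cases m : v ∈ C.img (XX Qf z t)
    · exact C.N_zero.1 (F.fix_X p C hy hI m)
    · have := C.N_zero.1 (F.fix_X p C hy hI (W.X2 _ _ (C.N_zero.1 hv) (C.N_zero.1 (F.NN p C x)) m nx))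
      rwa [map_add, k1, add_left_inj] at this
  have c1 := card_le_stab (σ := C.σ) (C.imK (XX Qf t z)) x (LinearMap.range (C.N t)) fun y hy =>
    C.form.mem_Mv_of fun e he => C.form.b_mv (fx y hy e (C.N_zero.2 he)) x
  have c2 := card_le_one_of (Y := C.imK (XX Qf t z) ⊓ stab C.σ x) fun y hy => C.form.faith y fun v => by
    rcases o v with e | e
    · exact fx y hy.1 v e
    · have := fx y hy.1 (v + x) (by rw [map_add, e, aa])
      rwa [map_add, mem_stab.1 hy.2, add_left_inj] at this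
  have c3 := Nat.pow_le_pow_right (n := 2) (by norm_num) (finrank_le_one_of hu)
  have c4 := F.four_le_card h2 p C hI
  have := c1.trans (Nat.mul_le_mul c3 c2)
  omega

variable (F : Fn D Qf 2 V K) (p : Pr D z t) (C : Cx (Qf z) z 2 V K)
include F p

theorem ker_two : finrank (ZMod 2) (LinearMap.ker (C.N t)) = 2 ∧
    ∀ v, C.N t v = 0 → v ∈ LinearMap.range (C.N t) := by
  have := C.form.fin
  have h1 := F.two_le_rk le_rfl p C
  have h2 := F.rk_le p C
  have h3 := C.sp.rk_ker (C.N t)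
  exact ⟨by omega, fun v hv => mem_of_le (B := LinearMap.ker (C.N t)) (by rintro _ ⟨x, rfl⟩; exact F.NN p C x)
    (by unfold rk at *; omega) hv⟩

theorem no_fix (hK : NoE K) {v : V} (v0 : v ≠ 0) (hv : ∀ k, C.σ k v = v) : ∃ i ∈ Qf z ⊓ Qf t, i ≠ 1 := by
  by_contra hI
  push Not at hI
  have := C.form.fin
  have := C.form.finK
  have c1 := F.four_le_card le_rfl p C hI
  obtain ⟨d1, kr⟩ := F.ker_two p C
  have vk : v ∈ LinearMap.ker (C.N t) := C.N_zero.2 (hv _)
  have two : ∀ {x y}, x ∈ LinearMap.ker (C.N t) → y ∈ LinearMap.ker (C.N t) → x ∉ Submodule.span (ZMod 2) {v} →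
      y ∉ Submodule.span (ZMod 2) {v} → x + y ∈ Submodule.span (ZMod 2) {v} := fun hx hy x1 y1 => by
    rw [mem_span1, not_or] at x1 y1
    rcases mem_four d1.le vk hx hy v0 x1.1 (Ne.symm x1.2) with e | e | e | e
    exacts [absurd e y1.1, absurd e y1.2, mem_span1.2 (Or.inl (az.2 e.symm)),
      mem_span1.2 (Or.inr (by rw [e, add_comm v, aab]))]
  have inv : ∀ y ∈ C.imK (XX Qf t z), ∀ u ∈ LinearMap.ker (C.N t), C.σ y u + u ∈ Submodule.span (ZMod 2) {v} :=
    fun y hy u hu => by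
      by_cases c : u ∈ Submodule.span (ZMod 2) {v}
      · rcases mem_span1.1 c with rfl | rfl <;> simp [hv, aa]
      refine two (by rw [LinearMap.mem_ker, ← F.y_fix p C hy, hu, map_zero]) hu (fun m => c ?_) c
      rw [← app_inv C.σ y u]
      rcases mem_span1.1 m with e | e <;> simp [e, hv]
  have d2 := finrank_inf_p1 (q := C.q) ⊤ v
  rw [finrank_top, C.form.dim] at d2
  obtain ⟨e, ⟨-, e1⟩, e2⟩ := exists_not_mem (A := LinearMap.ker (C.N t)) (B := ⊤ ⊓ p1 C.q v) (by omega)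
  replace e1 := mem_p1.1 e1
  have me : ∀ y ∈ C.imK (XX Qf t z), C.σ y e + e ∈ LinearMap.ker (C.N t) := fun y hy =>
    C.N_zero.2 (C.form.fix_of fun x => by
      rw [C.form.adj]
      rcases mem_span1.1 (inv _ (inv_mem hy) _ (F.NN p C x)) with k | k
      · exact (congrArg _ k).trans (polar_zero_right _ _)
      · exact (congrArg _ k).trans ((polar_comm _ _ _).trans e1))
  have one : ∀ y ∈ C.imK (XX Qf t z), C.σ y e + e ∈ Submodule.span (ZMod 2) {v} → y = 1 := fun y hy h =>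
    C.form.uni hK hv fun x hx => by
      obtain ⟨w, hw⟩ := exists_polar_one C.form.nd v0
      have d3 := finrank_lt_of (A := p1 C.q v) le_top (Submodule.mem_top (x := w))
        fun m => z01 ((mem_p1.1 m).symm.trans hw)
      have d4 := finrank_sup1 e2
      rw [finrank_top, C.form.dim] at d3
      rcases mem_sup1.1 (mem_of_le (A := LinearMap.ker (C.N t) ⊔ _) (B := p1 C.q v) (sup_le (fun u hu => by
        obtain ⟨u, rfl⟩ := kr u hu
        exact mem_p1.2 (C.b_N vk u)) ((Submodule.span_singleton_le_iff_mem _ _).2 (mem_p1.2 e1))) (by omega)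
          (mem_p1.2 hx)) with m | m
      · exact inv y hy x m
      · have := add_mem (inv y hy _ m) h
        rwa [map_add, add_add_add_comm, abb, abb] at this
  have := card_le_two_of (Y := C.imK (XX Qf t z)) fun a ha b hb a1 b1 =>
    inv_mul_eq_one.1 (one _ (mul_mem (inv_mem ha) hb) (by
      have := two (me a ha) (me b hb) (mt (one a ha) a1) (mt (one b hb) b1)
      rw [add_add_add_comm, aa, add_zero] at this
      rw [show C.σ (a⁻¹ * b) e + e = C.σ a⁻¹ (C.σ a e + C.σ b e) by rw [map_add, app_inv, app_mul, add_comm]]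
      rcases mem_span1.1 this with k | k <;> simp [k, hv]))
  omega

omit C in
theorem Q_le (hK : NoE K) {N : Subgroup G} [hN : N.Normal] (hD : ∀ d ∈ D, d ∈ N) : Qf z ≤ N := by
  obtain ⟨C⟩ := F.cx z p.l
  have := C.form.fin
  have l := F.l3 z p.l
  have kill : ∀ {s}, Pr D z s → ∀ v ∈ pp C.q (C.img N), C.N s v = 0 := fun p v hv =>
    C.N_zero.2 (C.form.fix_of fun y => by
      obtain ⟨a, ha, rfl⟩ := C.π_surj y
      obtain ⟨w, hw, e1, e2⟩ := F.π_cj p C ha
      rw [polar_comm]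
      exact mem_perp.1 hv _ ⟨w, (mul_mem_cancel_left (hD _ p.r)).1 (e1 ▸ hD _ (F.conj a _ p.r)), hw, e2⟩)
  have pc : ∀ {a}, a * z = z * a → Pr D z (a * t * a⁻¹) := fun {a} ha =>
    ⟨p.l, F.conj a t p.r, fun c => p.ne (H73.FD.cj_inj ((cj_of ha).trans c)),
      (comm_mul (comm_mul ha p.c.symm) (comm_inv ha)).symm⟩
  obtain ⟨a, b, ha, hb, nc⟩ := F.no_cent hK p C
  have nc' : ¬ ∀ v, C.N (a * t * a⁻¹) (C.N (b * t * b⁻¹) v) = C.N (b * t * b⁻¹) (C.N (a * t * a⁻¹) v) := fun e =>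
    nc (C.form.fext fun x => by simp only [app_mul, C.σ_app, map_add, e]; abel)
  have q := pc ha
  have q' := pc hb
  generalize a * t * a⁻¹ = s at q nc'
  generalize b * t * b⁻¹ = r at q' nc'
  intro x hx
  by_contra c
  obtain ⟨v, hv, e⟩ := C.sp.exists_pp (E := C.img N) (x := C.π x) fun m =>
    (C.π_mem_img hx l.sq m).elim c fun m => c ((mul_mem_cancel_right (hD z p.l)).1 m)
  have v0 : v ≠ 0 := fun k => z01 ((polar_zero_left _ _).symm.trans (k ▸ e))
  by_cases d : ∀ k, C.σ k v = v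
  · have A : ∀ {s}, Pr D z s → R2 C.q (C.N s) := fun p => by
      obtain ⟨i, hi, i1⟩ := F.no_fix p C hK v0 d
      exact ⟨F.alt p C fun l => i1 (F.lam_I p l hi), F.rk_le p C, F.ne_N p C⟩
    exact nc' ((A q).comm C.sp (A q').toAlt (A q).r (A q').r ((F.ker_two q C).2 v (kill q v hv))
      ((F.ker_two q' C).2 v (kill q' v hv)) v0)
  push Not at d
  obtain ⟨k, hk⟩ := d
  have d := two_le_finrank hv (y := C.σ k v) (mem_perp.2 (by
    rintro _ ⟨y, hy, y1, rfl⟩
    obtain ⟨g, hg, rfl⟩ := C.μ_surj k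
    rw [polar_comm, C.form.polar' (mul_inv_cancel _), ← C.μ_inv hg, C.act _ (comm_inv hg) _ y1, polar_comm]
    exact mem_perp.1 hv _ ⟨_, hN.conj_mem y hy _, F.nrm p.l (comm_inv hg) y1, rfl⟩)) v0
    (fun e => v0 (by rw [← app_inv C.σ k v, e, map_zero])) hk.symm
  have k : ∀ {s r}, Pr D z s → Pr D z r → ∀ v, C.N s (C.N r v) = 0 := fun p q v => kill p _
    (mem_of_le (B := LinearMap.ker (C.N _)) (kill q) ((F.ker_two q C).1.le.trans d) (F.NN q C v))
  exact nc' fun v => by rw [k q q', k q' q]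

end Fn

/-- width two: `Q` lies in every normal subgroup containing `z` -/
theorem le_of_two [Finite G] {Q : Subgroup G} {z : G} (h : L3 Q z)
    (hO : ∀ N : Subgroup G, IsPGroup 2 N → (∀ x ∈ N, x * z = z * x) →
      (∀ g, g * z = z * g → ∀ x ∈ N, g * x * g⁻¹ ∈ N) → N ≤ Q)
    (wc : ∀ g, g * z * g⁻¹ ∈ Q → g * z * g⁻¹ = z) (hex : ∃ g, g * z * g⁻¹ ≠ z ∧ g * z * g⁻¹ * z = z * (g * z * g⁻¹))
    (hc : Nat.card Q = 32) {N : Subgroup G} [hN : N.Normal] (hz : z ∈ N) : Q ≤ N := by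
  have : (Q.subgroupOf (centralizer {z})).Normal :=
    ⟨fun x hx g => conj_mem_of_normalizer (H := Q) (h.norm g (mem_cent_iff.1 g.2)) hx⟩
  have hμ := QuotientGroup.mk'_surjective (Q.subgroupOf (centralizer {z}))
  obtain ⟨V, _, _, F⟩ := exists_fn h wc _ hμ (fun x => QuotientGroup.eq_one_iff x) (n := 2) hc
  obtain ⟨t, p⟩ := ex_pr hex z (IsConj.refl z)
  exact Qof_self h ▸ F.Q_le p (noE h hO _ hμ fun x => QuotientGroup.eq_one_iff x) fun d hd => by
    obtain ⟨g, rfl⟩ := isConj_iff.1 hd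
    exact hN.conj_mem z hz g

/-- existence of a commuting conjugate -/
theorem exists_comm [Finite G] {Q : Subgroup G} {z : G} (h : L3 Q z) (hodd : Cfsg.oddCore G = ⊥)
    (nc : z ∉ center G) : ∃ g, g * z * g⁻¹ ≠ z ∧ g * z * g⁻¹ * z = z * (g * z * g⁻¹) := by
  by_contra c
  push Not at c
  obtain ⟨P, hP⟩ := h.isPGroup.exists_le_sylow
  have : Nontrivial P := ⟨⟨⟨z, hP h.mem⟩, 1, fun e => h.ne_one (congrArg Subtype.val e)⟩⟩
  have := P.isPGroup'.center_nontrivial
  obtain ⟨x, hx⟩ := exists_ne (1 : center P)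
  have e := (h.cent (x : P) fun y hy => congrArg Subtype.val (mem_center_iff.1 x.2 ⟨y, hP hy⟩)).resolve_left
    fun e => hx (Subtype.ext (Subtype.ext e))
  obtain ⟨N, hN, ho, hg⟩ := Cfsg.Agent.S0215.result P z (orderOf_eq_prime (by rw [pow_two, h.sq]) h.ne_one)
    (hP h.mem) fun g hg => by_contra fun ne => c g ne (e ▸ congrArg Subtype.val (mem_center_iff.1 x.2 ⟨_, hg⟩))
  refine nc (mem_center_iff.2 fun g => ?_)
  have := H1.le_oddCore ho (hg g)
  rw [hodd, mem_bot, mul_inv_eq_one, mul_inv_eq_iff_eq_mul] at this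
  exact this.symm

end H9.WN
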